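import Cfsg.Agent.Lib.Grp.HSCent.Cert.HCosPart0

/-! A checked coset enumeration. -/

set_option autoImplicit false
set_option maxRecDepth 100000
set_option maxHeartbeats 4000000

open Cfsg.Agent.Spor.Cos

namespace Cfsg.Agent.Grp.HSCent

theorem hCos_def0 : allBlock hCos.chkDef 17 512 0 = true := by decide +kernel

theorem hCos_defs : ∀ i, i + 1 < hCos.M → hCos.chkDef i = true := by
  intro i hi
  change i + 1 < 18 at hi
  refine of_allBlock (n := 17) (size := 512) (by decide) (fun j hj => ?_) (by omega)
  have hj' : j < 1 := by omega
  interval_cases j
  · exact hCos_def0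

theorem hCos_facts : ∀ i, hCos.M ≤ i + 1 → i < hCos.nF → ∃ J, hCos.chkFact i J = true := by
  exact hCos.facts_of_covers (hCos.covers_of_part _ _ _ hCos_part0) rfl rfl

theorem hCos_final0 : allBlock hCos.chkFinal 25 512 0 = true := by decide +kernel

theorem hCos_checks : hCos.Checks where
  pos := by decide +kernel
  defs := hCos_defs
  facts := hCos_facts
  final := by
    intro k hk
    change k < 5 * 5 at hk
    refine of_allBlock (n := 25) (size := 512) (by decide) (fun j hj => ?_) (by omega)
    have hj' : j < 1 := by omega
    interval_cases j
    · exact hCos_final0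

theorem hCos_derived : hCos.rels.all (derivedOk hCos.n hCosBase) = true := by decide +kernel

end Cfsg.Agent.Grp.HSCent
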