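import Cfsg.Agent.Lib.Spor.Cos.Log

/-!
Data of a coset enumeration with 5 cosets.
-/

set_option autoImplicit false
set_option maxRecDepth 100000
set_option maxHeartbeats 4000000

open Cfsg.Agent.Spor.Cos

namespace Cfsg.Agent.Grp.HSCent

def hCosFactsT0 : Tree := .leaf 0x4000030000320000200002200004000045000020000f5000040000c100003000030000030000300000f0000c20000f00002000004000024000040000420000c00004500002000105000100000210000400004000010000043000030000250000400005500005000045000040001150000200009500009000025000010000a300009000035000030000b50000b000035000030000850000200006500001000071000040001130000a00011000004000093000020000b40000500005300000000004000020000220000000000100000000000000010000100000000000000011000102000100000f30000f0000e20000e0000d30000d0000c20000c0000520000b0000a10000a00009300009000082000080000710000700006300006000030000050000230000400001200003000011000020000140000100000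

/-- The table hCosFacts. -/
def hCosFacts : Table := ⟨hCosFactsT0, 0, 44, 6⟩

def hCosFinalT0 : Tree := .leaf 0x5d000038001b4000aa0005f000388001440000a00067000328000ac000a00006f000018001780000200006000020000080004a00000000168000a40004e00023

/-- The table hCosFinal. -/
def hCosFinal : Table := ⟨hCosFinalT0, 0, 21, 6⟩

/-- The base words of `hCos`. -/
def hCosBase : List (List ℕ) := [[0, 1, 0, 1, 0, 1], [1, 2, 3, 1, 2, 3, 1, 2, 3], [0, 2, 3, 2, 3, 2, 0, 3, 2, 3], [0, 1, 2, 0, 2, 3, 1, 3, 0, 3, 1], [4, 2, 1, 2, 1, 2, 1, 4, 2, 1, 2, 1, 2, 1], [4, 3, 0, 2, 0, 2, 3, 4, 3, 1, 3, 1, 3, 2, 0], [4, 0, 3, 1, 3, 1, 0, 3, 4, 2, 3, 1, 0, 2, 1, 2], [4, 0, 2, 3, 1, 3, 1, 3, 4, 3, 2, 0, 2, 0, 3], [4, 2, 1, 2, 0, 1, 3, 2, 4, 3, 0, 1, 3, 1, 3, 0], [4, 3, 0, 1, 2, 3, 1, 4, 1, 3, 2, 1, 0, 3], [4, 0, 4, 0], [4, 1, 4, 1, 4, 1, 1, 2, 1, 2, 1, 2]]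

/-- The certificate `hCos`. -/
def hCos : Log where
  n := 5
  N := 5
  M := 18
  nF := 57
  facts := hCosFacts
  final := hCosFinal
  rels := [[4, 0, 4, 0], [4, 1, 4, 1, 4, 1, 1, 2, 1, 2, 1, 2], [0, 4, 0, 4], [1, 2, 3, 1, 2, 3, 1, 2, 3], [3, 2, 1, 0, 3, 4, 3, 0, 1, 2, 3, 1, 4, 1], [0, 2, 3, 2, 3, 2, 0, 3, 2, 3], [3, 1, 3, 0, 4, 2, 1, 2, 0, 1, 3, 2, 4, 3, 0, 1], [1, 3, 1, 3, 2, 0, 4, 3, 0, 2, 0, 2, 3, 4, 3], [1, 1], [2, 2], [3, 3], [], [0, 0], [4, 4], [2, 0, 3, 4, 0, 2, 3, 1, 3, 1, 3, 4, 3, 2, 0], [0, 2, 3, 1, 3, 0, 3, 1, 0, 1, 2], [0, 2, 1, 0, 1, 3, 0, 3, 1, 3, 2], [0, 4, 3, 0, 2, 0, 2, 3, 4, 3, 1, 3, 1, 3, 2], [2, 3, 1, 4, 1, 3, 2, 1, 0, 3, 4, 3, 0, 1]]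
  sub := [[0], [1], [2], [3]]

end Cfsg.Agent.Grp.HSCent
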