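import Cfsg.Agent.Lib.Grp.HSCent.Cert.HCosData

/-! Checks of the facts of a coset enumeration. -/

set_option autoImplicit false
set_option maxRecDepth 100000
set_option maxHeartbeats 4000000

open Cfsg.Agent.Spor.Cos

namespace Cfsg.Agent.Grp.HSCent

theorem hCos_part0 : hCos.chkPart 17 57 [(24, 0x4800021008000000400028000980000800020000b000048000c8000920101000010040c000038000d40008a0101000008040a0002300002000040002c0008600030000208040400006010280000800015000208040400006010240007800011010000000c00050000f80001000030001600030000058000ec0202000020081400005000070000e40202000010081200003000068000e40202000010081000006000000000b000050000220001400008800058000010001200003c00022000130001a0000dc1405000040280e00012000198000180000000028000160000980004400028000130000a00000200024000038000d41c010000a0080c000300000a0000800003c0001c0000d0000600002c000080101c000080e028000080000000026000160000a00004c00022000160000040000e000130000a8000c41403000020180800014000090000400001c0000c000050000100000600040000102003000040000ac0001200018000280c020000000000000b0000a00004c00028000130000a00004c000260000080000c0000400000048080000004008000000000000540000000000002800022000008000000401000000080000000000000013), (16, 0x400024000038001700000c00024000018001b8000a20006600033800140000de0a018000100c120003500018004000000200012000680002d008000000800024000bc0006200034804040000801030000c0000510003300014000004000070002e0000180000a00064000020000900000e0005c00031838020001e01044000c0000510002800017c0000c000030002f800154000b600063010200003c1008000180000040002400001800144000a0000020000380016c000c60502800078140f0002d000018000000002d000138000b40004e0002d0001480008c00002000070002f000184000e0000f0701c000580000f008000000400024000b000052010000000800060001380005c0004f018000001000068001380002e020000002000090002b00002000040002c000a60000900027804040000801030000940003701000000100004000128000400200000020000c)]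 = true := by decide +kernel

end Cfsg.Agent.Grp.HSCent
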