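import Cfsg.Agent.Lib.Grp.HSCent.Cert.Lift01Part0

/-! A checked coset enumeration. -/

set_option autoImplicit false
set_option maxRecDepth 100000
set_option maxHeartbeats 4000000

open Cfsg.Agent.Spor.Cos

namespace Cfsg.Agent.Grp.HSCent

theorem lift01_def0 : allBlock lift01.chkDef 1643 512 0 = true := by decide +kernel

theorem lift01_def1 : allBlock lift01.chkDef 1643 512 1 = true := by decide +kernel

theorem lift01_def2 : allBlock lift01.chkDef 1643 512 2 = true := by decide +kernel

theorem lift01_def3 : allBlock lift01.chkDef 1643 512 3 = true := by decide +kernel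

theorem lift01_defs : ∀ i, i + 1 < lift01.M → lift01.chkDef i = true := by
  intro i hi
  change i + 1 < 1644 at hi
  refine of_allBlock (n := 1643) (size := 512) (by decide) (fun j hj => ?_) (by omega)
  have hj' : j < 4 := by omega
  interval_cases j
  · exact lift01_def0
  · exact lift01_def1
  · exact lift01_def2
  · exact lift01_def3

theorem lift01_facts : ∀ i, lift01.M ≤ i + 1 → i < lift01.nF → ∃ J, lift01.chkFact i J = true := by
  exact lift01.facts_of_covers (Log.Covers.trans lift01 (Log.Covers.trans lift01 (lift01.covers_of_part _ _ _ lift01_part0) (lift01.covers_of_part _ _ _ lift01_part1)) (Log.Covers.trans lift01 (lift01.covers_of_part _ _ _ lift01_part2) (lift01.covers_of_part _ _ _ lift01_part3))) rfl rfl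

theorem lift01_loop : lift01.walk lift01.nF 0 8 0x180002c03e5801f2100f968000280000400cdb 0 [0, 3, 0, 3, 0, 3, 0, 3] = true := by decide +kernel

theorem lift01_derived : lift01.rels.all (derivedOk lift01.n lift01Base) = true := by decide +kernel

end Cfsg.Agent.Grp.HSCent
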