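import Cfsg.Agent.Lib.Grp.HSCent.Cert.Lift10Part0

/-! A checked coset enumeration. -/

set_option autoImplicit false
set_option maxRecDepth 100000
set_option maxHeartbeats 4000000

open Cfsg.Agent.Spor.Cos

namespace Cfsg.Agent.Grp.HSCent

theorem lift10_def0 : allBlock lift10.chkDef 642 512 0 = true := by decide +kernel

theorem lift10_def1 : allBlock lift10.chkDef 642 512 1 = true := by decide +kernel

theorem lift10_defs : ∀ i, i + 1 < lift10.M → lift10.chkDef i = true := by
  intro i hi
  change i + 1 < 643 at hi
  refine of_allBlock (n := 642) (size := 512) (by decide) (fun j hj => ?_) (by omega)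
  have hj' : j < 2 := by omega
  interval_cases j
  · exact lift10_def0
  · exact lift10_def1

theorem lift10_facts : ∀ i, lift10.M ≤ i + 1 → i < lift10.nF → ∃ J, lift10.chkFact i J = true := by
  exact lift10.facts_of_covers (lift10.covers_of_part _ _ _ lift10_part0) rfl rfl

theorem lift10_loop : lift10.walk lift10.nF 0 8 0x80000c015da00aeb005760000080000000505 0 [0, 3, 0, 3, 0, 3, 0, 3] = true := by decide +kernel

theorem lift10_derived : lift10.rels.all (derivedOk lift10.n lift10Base) = true := by decide +kernel

end Cfsg.Agent.Grp.HSCent
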