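import Cfsg.Agent.Lib.Grp.HSCent.Cert.Lift11Part0

/-! A checked coset enumeration. -/

set_option autoImplicit false
set_option maxRecDepth 100000
set_option maxHeartbeats 4000000

open Cfsg.Agent.Spor.Cos

namespace Cfsg.Agent.Grp.HSCent

theorem lift11_def0 : allBlock lift11.chkDef 1948 512 0 = true := by decide +kernel

theorem lift11_def1 : allBlock lift11.chkDef 1948 512 1 = true := by decide +kernel

theorem lift11_def2 : allBlock lift11.chkDef 1948 512 2 = true := by decide +kernel

theorem lift11_def3 : allBlock lift11.chkDef 1948 512 3 = true := by decide +kernel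

theorem lift11_defs : ∀ i, i + 1 < lift11.M → lift11.chkDef i = true := by
  intro i hi
  change i + 1 < 1949 at hi
  refine of_allBlock (n := 1948) (size := 512) (by decide) (fun j hj => ?_) (by omega)
  have hj' : j < 4 := by omega
  interval_cases j
  · exact lift11_def0
  · exact lift11_def1
  · exact lift11_def2
  · exact lift11_def3

theorem lift11_facts : ∀ i, lift11.M ≤ i + 1 → i < lift11.nF → ∃ J, lift11.chkFact i J = true := by
  exact lift11.facts_of_covers (Log.Covers.trans lift11 (lift11.covers_of_part _ _ _ lift11_part0) (lift11.covers_of_part _ _ _ lift11_part1)) rfl rfl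

theorem lift11_loop : lift11.walk lift11.nF 0 8 0x8000140348001a3f00d208000100000000f39 0 [0, 3, 0, 3, 0, 3, 0, 3] = true := by decide +kernel

theorem lift11_derived : lift11.rels.all (derivedOk lift11.n lift11Base) = true := by decide +kernel

end Cfsg.Agent.Grp.HSCent
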