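import Cfsg.Agent.Lib.Grp.HSCent.Cert.Off10Part0

/-! A checked coset enumeration. -/

set_option autoImplicit false
set_option maxRecDepth 100000
set_option maxHeartbeats 4000000

open Cfsg.Agent.Spor.Cos

namespace Cfsg.Agent.Grp.HSCent

theorem off10_def0 : allBlock off10.chkDef 301 512 0 = true := by decide +kernel

theorem off10_defs : ∀ i, i + 1 < off10.M → off10.chkDef i = true := by
  intro i hi
  change i + 1 < 302 at hi
  refine of_allBlock (n := 301) (size := 512) (by decide) (fun j hj => ?_) (by omega)
  have hj' : j < 1 := by omega
  interval_cases j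
  · exact off10_def0

theorem off10_facts : ∀ i, off10.M ≤ i + 1 → i < off10.nF → ∃ J, off10.chkFact i J = true := by
  exact off10.facts_of_covers (off10.covers_of_part _ _ _ off10_part0) rfl rfl

theorem off10_loop : off10.walk off10.nF 0 1 0x60b 0 [4] = true := by decide +kernel

theorem off10_derived : off10.rels.all (derivedOk off10.n off10Base) = true := by decide +kernel

end Cfsg.Agent.Grp.HSCent
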