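import Cfsg.Agent.Lib.Grp.HSCent.Cert.Off11Part0

/-! A checked coset enumeration. -/

set_option autoImplicit false
set_option maxRecDepth 100000
set_option maxHeartbeats 4000000

open Cfsg.Agent.Spor.Cos

namespace Cfsg.Agent.Grp.HSCent

theorem off11_def0 : allBlock off11.chkDef 440 512 0 = true := by decide +kernel

theorem off11_defs : ∀ i, i + 1 < off11.M → off11.chkDef i = true := by
  intro i hi
  change i + 1 < 441 at hi
  refine of_allBlock (n := 440) (size := 512) (by decide) (fun j hj => ?_) (by omega)
  have hj' : j < 1 := by omega
  interval_cases j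
  · exact off11_def0

theorem off11_facts : ∀ i, off11.M ≤ i + 1 → i < off11.nF → ∃ J, off11.chkFact i J = true := by
  exact off11.facts_of_covers (off11.covers_of_part _ _ _ off11_part0) rfl rfl

theorem off11_loop : off11.walk off11.nF 0 1 0x88d 0 [4] = true := by decide +kernel

theorem off11_derived : off11.rels.all (derivedOk off11.n off11Base) = true := by decide +kernel

end Cfsg.Agent.Grp.HSCent
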