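import Cfsg.Agent.Lib.Grp.HSCent.Cert.Off1Part0

/-! A checked coset enumeration. -/

set_option autoImplicit false
set_option maxRecDepth 100000
set_option maxHeartbeats 4000000

open Cfsg.Agent.Spor.Cos

namespace Cfsg.Agent.Grp.HSCent

theorem off1_def0 : allBlock off1.chkDef 698 512 0 = true := by decide +kernel

theorem off1_def1 : allBlock off1.chkDef 698 512 1 = true := by decide +kernel

theorem off1_defs : ∀ i, i + 1 < off1.M → off1.chkDef i = true := by
  intro i hi
  change i + 1 < 699 at hi
  refine of_allBlock (n := 698) (size := 512) (by decide) (fun j hj => ?_) (by omega)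
  have hj' : j < 2 := by omega
  interval_cases j
  · exact off1_def0
  · exact off1_def1

theorem off1_facts : ∀ i, off1.M ≤ i + 1 → i < off1.nF → ∃ J, off1.chkFact i J = true := by
  exact off1.facts_of_covers (Log.Covers.trans off1 (off1.covers_of_part _ _ _ off1_part0) (off1.covers_of_part _ _ _ off1_part1)) rfl rfl

theorem off1_loop : off1.walk off1.nF 0 1 0xde9 0 [4] = true := by decide +kernel

theorem off1_derived : off1.rels.all (derivedOk off1.n off1Base) = true := by decide +kernel

end Cfsg.Agent.Grp.HSCent
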