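import Cfsg.Agent.Lib.Grp.HSCent.Cert.Off7Part0

/-! A checked coset enumeration. -/

set_option autoImplicit false
set_option maxRecDepth 100000
set_option maxHeartbeats 4000000

open Cfsg.Agent.Spor.Cos

namespace Cfsg.Agent.Grp.HSCent

theorem off7_def0 : allBlock off7.chkDef 328 512 0 = true := by decide +kernel

theorem off7_defs : ∀ i, i + 1 < off7.M → off7.chkDef i = true := by
  intro i hi
  change i + 1 < 329 at hi
  refine of_allBlock (n := 328) (size := 512) (by decide) (fun j hj => ?_) (by omega)
  have hj' : j < 1 := by omega
  interval_cases j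
  · exact off7_def0

theorem off7_facts : ∀ i, off7.M ≤ i + 1 → i < off7.nF → ∃ J, off7.chkFact i J = true := by
  exact off7.facts_of_covers (off7.covers_of_part _ _ _ off7_part0) rfl rfl

theorem off7_loop : off7.walk off7.nF 0 1 0x643 0 [4] = true := by decide +kernel

theorem off7_derived : off7.rels.all (derivedOk off7.n off7Base) = true := by decide +kernel

end Cfsg.Agent.Grp.HSCent
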