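import Cfsg.Agent.Lib.Grp.HSCent.Cert.Off9Part0

/-! A checked coset enumeration. -/

set_option autoImplicit false
set_option maxRecDepth 100000
set_option maxHeartbeats 4000000

open Cfsg.Agent.Spor.Cos

namespace Cfsg.Agent.Grp.HSCent

theorem off9_def0 : allBlock off9.chkDef 609 512 0 = true := by decide +kernel

theorem off9_def1 : allBlock off9.chkDef 609 512 1 = true := by decide +kernel

theorem off9_defs : ∀ i, i + 1 < off9.M → off9.chkDef i = true := by
  intro i hi
  change i + 1 < 610 at hi
  refine of_allBlock (n := 609) (size := 512) (by decide) (fun j hj => ?_) (by omega)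
  have hj' : j < 2 := by omega
  interval_cases j
  · exact off9_def0
  · exact off9_def1

theorem off9_facts : ∀ i, off9.M ≤ i + 1 → i < off9.nF → ∃ J, off9.chkFact i J = true := by
  exact off9.facts_of_covers (Log.Covers.trans off9 (off9.covers_of_part _ _ _ off9_part0) (off9.covers_of_part _ _ _ off9_part1)) rfl rfl

theorem off9_loop : off9.walk off9.nF 0 1 0xc1f 0 [4] = true := by decide +kernel

theorem off9_derived : off9.rels.all (derivedOk off9.n off9Base) = true := by decide +kernel

end Cfsg.Agent.Grp.HSCent
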