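import Cfsg.Agent.Lib.Grp.HSCent.Cert.QCosPart0

/-! A checked coset enumeration. -/

set_option autoImplicit false
set_option maxRecDepth 100000
set_option maxHeartbeats 4000000

open Cfsg.Agent.Spor.Cos

namespace Cfsg.Agent.Grp.HSCent

theorem qCos_def0 : allBlock qCos.chkDef 506 512 0 = true := by decide +kernel

theorem qCos_defs : ∀ i, i + 1 < qCos.M → qCos.chkDef i = true := by
  intro i hi
  change i + 1 < 507 at hi
  refine of_allBlock (n := 506) (size := 512) (by decide) (fun j hj => ?_) (by omega)
  have hj' : j < 1 := by omega
  interval_cases j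
  · exact qCos_def0

theorem qCos_facts : ∀ i, qCos.M ≤ i + 1 → i < qCos.nF → ∃ J, qCos.chkFact i J = true := by
  exact qCos.facts_of_covers (Log.Covers.trans qCos (qCos.covers_of_part _ _ _ qCos_part0) (qCos.covers_of_part _ _ _ qCos_part1)) rfl rfl

theorem qCos_final0 : allBlock qCos.chkFinal 256 512 0 = true := by decide +kernel

theorem qCos_checks : qCos.Checks where
  pos := by decide +kernel
  defs := qCos_defs
  facts := qCos_facts
  final := by
    intro k hk
    change k < 64 * 4 at hk
    refine of_allBlock (n := 256) (size := 512) (by decide) (fun j hj => ?_) (by omega)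
    have hj' : j < 1 := by omega
    interval_cases j
    · exact qCos_final0

theorem qCos_derived : qCos.rels.all (derivedOk qCos.n qCosBase) = true := by decide +kernel

end Cfsg.Agent.Grp.HSCent
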