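import Cfsg.Agent.Lib.Grp.HSCent.Cert.StgCosPart0

/-! A checked coset enumeration. -/

set_option autoImplicit false
set_option maxRecDepth 100000
set_option maxHeartbeats 4000000

open Cfsg.Agent.Spor.Cos

namespace Cfsg.Agent.Grp.HSCent

theorem stgCos_def0 : allBlock stgCos.chkDef 484 512 0 = true := by decide +kernel

theorem stgCos_defs : ∀ i, i + 1 < stgCos.M → stgCos.chkDef i = true := by
  intro i hi
  change i + 1 < 485 at hi
  refine of_allBlock (n := 484) (size := 512) (by decide) (fun j hj => ?_) (by omega)
  have hj' : j < 1 := by omega
  interval_cases j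
  · exact stgCos_def0

theorem stgCos_facts : ∀ i, stgCos.M ≤ i + 1 → i < stgCos.nF → ∃ J, stgCos.chkFact i J = true := by
  exact stgCos.facts_of_covers (stgCos.covers_of_part _ _ _ stgCos_part0) rfl rfl

theorem stgCos_final0 : allBlock stgCos.chkFinal 504 512 0 = true := by decide +kernel

theorem stgCos_checks : stgCos.Checks where
  pos := by decide +kernel
  defs := stgCos_defs
  facts := stgCos_facts
  final := by
    intro k hk
    change k < 168 * 3 at hk
    refine of_allBlock (n := 504) (size := 512) (by decide) (fun j hj => ?_) (by omega)
    have hj' : j < 1 := by omega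
    interval_cases j
    · exact stgCos_final0

theorem stgCos_derived : stgCos.rels.all (derivedOk stgCos.n stgCosBase) = true := by decide +kernel

end Cfsg.Agent.Grp.HSCent
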