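import Cfsg.Agent.Lib.Grp.HSCent.Cert.TopCosPart0
import Cfsg.Agent.Lib.Grp.HSCent.Cert.TopCosPart1
import Cfsg.Agent.Lib.Grp.HSCent.Cert.TopCosPart2

/-! A checked coset enumeration. -/

set_option autoImplicit false
set_option maxRecDepth 100000
set_option maxHeartbeats 4000000

open Cfsg.Agent.Spor.Cos

namespace Cfsg.Agent.Grp.HSCent

theorem topCos_def0 : allBlock topCos.chkDef 9123 512 0 = true := by decide +kernel

theorem topCos_def1 : allBlock topCos.chkDef 9123 512 1 = true := by decide +kernel

theorem topCos_def2 : allBlock topCos.chkDef 9123 512 2 = true := by decide +kernel

theorem topCos_def3 : allBlock topCos.chkDef 9123 512 3 = true := by decide +kernel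

theorem topCos_def4 : allBlock topCos.chkDef 9123 512 4 = true := by decide +kernel

theorem topCos_def5 : allBlock topCos.chkDef 9123 512 5 = true := by decide +kernel

theorem topCos_def6 : allBlock topCos.chkDef 9123 512 6 = true := by decide +kernel

theorem topCos_def7 : allBlock topCos.chkDef 9123 512 7 = true := by decide +kernel

theorem topCos_def8 : allBlock topCos.chkDef 9123 512 8 = true := by decide +kernel

theorem topCos_def9 : allBlock topCos.chkDef 9123 512 9 = true := by decide +kernel

theorem topCos_def10 : allBlock topCos.chkDef 9123 512 10 = true := by decide +kernel

theorem topCos_def11 : allBlock topCos.chkDef 9123 512 11 = true := by decide +kernel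

theorem topCos_def12 : allBlock topCos.chkDef 9123 512 12 = true := by decide +kernel

theorem topCos_def13 : allBlock topCos.chkDef 9123 512 13 = true := by decide +kernel

theorem topCos_def14 : allBlock topCos.chkDef 9123 512 14 = true := by decide +kernel

theorem topCos_def15 : allBlock topCos.chkDef 9123 512 15 = true := by decide +kernel

theorem topCos_def16 : allBlock topCos.chkDef 9123 512 16 = true := by decide +kernel

theorem topCos_def17 : allBlock topCos.chkDef 9123 512 17 = true := by decide +kernel

theorem topCos_defs : ∀ i, i + 1 < topCos.M → topCos.chkDef i = true := by
  intro i hi
  change i + 1 < 9124 at hi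
  refine of_allBlock (n := 9123) (size := 512) (by decide) (fun j hj => ?_) (by omega)
  have hj' : j < 18 := by omega
  interval_cases j
  · exact topCos_def0
  · exact topCos_def1
  · exact topCos_def2
  · exact topCos_def3
  · exact topCos_def4
  · exact topCos_def5
  · exact topCos_def6
  · exact topCos_def7
  · exact topCos_def8
  · exact topCos_def9
  · exact topCos_def10
  · exact topCos_def11
  · exact topCos_def12
  · exact topCos_def13
  · exact topCos_def14
  · exact topCos_def15
  · exact topCos_def16
  · exact topCos_def17

theorem topCos_facts : ∀ i, topCos.M ≤ i + 1 → i < topCos.nF → ∃ J, topCos.chkFact i J = true := by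
  exact topCos.facts_of_covers (Log.Covers.trans topCos (Log.Covers.trans topCos (Log.Covers.trans topCos (Log.Covers.trans topCos (topCos.covers_of_part _ _ _ topCos_part0) (Log.Covers.trans topCos (topCos.covers_of_part _ _ _ topCos_part1) (topCos.covers_of_part _ _ _ topCos_part2))) (Log.Covers.trans topCos (topCos.covers_of_part _ _ _ topCos_part3) (Log.Covers.trans topCos (topCos.covers_of_part _ _ _ topCos_part4) (topCos.covers_of_part _ _ _ topCos_part5)))) (Log.Covers.trans topCos (Log.Covers.trans topCos (topCos.covers_of_part _ _ _ topCos_part6) (Log.Covers.trans topCos (topCos.covers_of_part _ _ _ topCos_part7) (topCos.covers_of_part _ _ _ topCos_part8))) (Log.Covers.trans topCos (Log.Covers.trans topCos (topCos.covers_of_part _ _ _ topCos_part9) (topCos.covers_of_part _ _ _ topCos_part10)) (Log.Covers.trans topCos (topCos.covers_of_part _ _ _ topCos_part11) (topCos.covers_of_part _ _ _ topCos_part12))))) (Log.Covers.trans topCos (Log.Covers.trans topCos (Log.Covers.trans topCos (topCos.covers_of_part _ _ _ topCos_part13) (Log.Covers.trans topCos (topCos.covers_of_part _ _ _ topCos_part14) (topCos.covers_of_part _ _ _ topCos_part15))) (Log.Covers.trans topCos (topCos.covers_of_part _ _ _ topCos_part16) (Log.Covers.trans topCos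 (topCos.covers_of_part _ _ _ topCos_part17) (topCos.covers_of_part _ _ _ topCos_part18)))) (Log.Covers.trans topCos (Log.Covers.trans topCos (topCos.covers_of_part _ _ _ topCos_part19) (Log.Covers.trans topCos (topCos.covers_of_part _ _ _ topCos_part20) (topCos.covers_of_part _ _ _ topCos_part21))) (Log.Covers.trans topCos (Log.Covers.trans topCos (topCos.covers_of_part _ _ _ topCos_part22) (topCos.covers_of_part _ _ _ topCos_part23)) (Log.Covers.trans topCos (topCos.covers_of_part _ _ _ topCos_part24) (topCos.covers_of_part _ _ _ topCos_part25)))))) rfl rfl

theorem topCos_final0 : allBlock topCos.chkFinal 34650 512 0 = true := by decide +kernel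

theorem topCos_final1 : allBlock topCos.chkFinal 34650 512 1 = true := by decide +kernel

theorem topCos_final2 : allBlock topCos.chkFinal 34650 512 2 = true := by decide +kernel

theorem topCos_final3 : allBlock topCos.chkFinal 34650 512 3 = true := by decide +kernel

theorem topCos_final4 : allBlock topCos.chkFinal 34650 512 4 = true := by decide +kernel

theorem topCos_final5 : allBlock topCos.chkFinal 34650 512 5 = true := by decide +kernel

theorem topCos_final6 : allBlock topCos.chkFinal 34650 512 6 = true := by decide +kernel

theorem topCos_final7 : allBlock topCos.chkFinal 34650 512 7 = true := by decide +kernel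

theorem topCos_final8 : allBlock topCos.chkFinal 34650 512 8 = true := by decide +kernel

theorem topCos_final9 : allBlock topCos.chkFinal 34650 512 9 = true := by decide +kernel

theorem topCos_final10 : allBlock topCos.chkFinal 34650 512 10 = true := by decide +kernel

theorem topCos_final11 : allBlock topCos.chkFinal 34650 512 11 = true := by decide +kernel

theorem topCos_final12 : allBlock topCos.chkFinal 34650 512 12 = true := by decide +kernel

theorem topCos_final13 : allBlock topCos.chkFinal 34650 512 13 = true := by decide +kernel

theorem topCos_final14 : allBlock topCos.chkFinal 34650 512 14 = true := by decide +kernel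

theorem topCos_final15 : allBlock topCos.chkFinal 34650 512 15 = true := by decide +kernel

theorem topCos_final16 : allBlock topCos.chkFinal 34650 512 16 = true := by decide +kernel

theorem topCos_final17 : allBlock topCos.chkFinal 34650 512 17 = true := by decide +kernel

theorem topCos_final18 : allBlock topCos.chkFinal 34650 512 18 = true := by decide +kernel

theorem topCos_final19 : allBlock topCos.chkFinal 34650 512 19 = true := by decide +kernel

theorem topCos_final20 : allBlock topCos.chkFinal 34650 512 20 = true := by decide +kernel

theorem topCos_final21 : allBlock topCos.chkFinal 34650 512 21 = true := by decide +kernel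

theorem topCos_final22 : allBlock topCos.chkFinal 34650 512 22 = true := by decide +kernel

theorem topCos_final23 : allBlock topCos.chkFinal 34650 512 23 = true := by decide +kernel

theorem topCos_final24 : allBlock topCos.chkFinal 34650 512 24 = true := by decide +kernel

theorem topCos_final25 : allBlock topCos.chkFinal 34650 512 25 = true := by decide +kernel

theorem topCos_final26 : allBlock topCos.chkFinal 34650 512 26 = true := by decide +kernel

theorem topCos_final27 : allBlock topCos.chkFinal 34650 512 27 = true := by decide +kernel

theorem topCos_final28 : allBlock topCos.chkFinal 34650 512 28 = true := by decide +kernel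

theorem topCos_final29 : allBlock topCos.chkFinal 34650 512 29 = true := by decide +kernel

theorem topCos_final30 : allBlock topCos.chkFinal 34650 512 30 = true := by decide +kernel

theorem topCos_final31 : allBlock topCos.chkFinal 34650 512 31 = true := by decide +kernel

theorem topCos_final32 : allBlock topCos.chkFinal 34650 512 32 = true := by decide +kernel

theorem topCos_final33 : allBlock topCos.chkFinal 34650 512 33 = true := by decide +kernel

theorem topCos_final34 : allBlock topCos.chkFinal 34650 512 34 = true := by decide +kernel

theorem topCos_final35 : allBlock topCos.chkFinal 34650 512 35 = true := by decide +kernel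

theorem topCos_final36 : allBlock topCos.chkFinal 34650 512 36 = true := by decide +kernel

theorem topCos_final37 : allBlock topCos.chkFinal 34650 512 37 = true := by decide +kernel

theorem topCos_final38 : allBlock topCos.chkFinal 34650 512 38 = true := by decide +kernel

theorem topCos_final39 : allBlock topCos.chkFinal 34650 512 39 = true := by decide +kernel

theorem topCos_final40 : allBlock topCos.chkFinal 34650 512 40 = true := by decide +kernel

theorem topCos_final41 : allBlock topCos.chkFinal 34650 512 41 = true := by decide +kernel

theorem topCos_final42 : allBlock topCos.chkFinal 34650 512 42 = true := by decide +kernel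

theorem topCos_final43 : allBlock topCos.chkFinal 34650 512 43 = true := by decide +kernel

theorem topCos_final44 : allBlock topCos.chkFinal 34650 512 44 = true := by decide +kernel

theorem topCos_final45 : allBlock topCos.chkFinal 34650 512 45 = true := by decide +kernel

theorem topCos_final46 : allBlock topCos.chkFinal 34650 512 46 = true := by decide +kernel

theorem topCos_final47 : allBlock topCos.chkFinal 34650 512 47 = true := by decide +kernel

theorem topCos_final48 : allBlock topCos.chkFinal 34650 512 48 = true := by decide +kernel

theorem topCos_final49 : allBlock topCos.chkFinal 34650 512 49 = true := by decide +kernel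

theorem topCos_final50 : allBlock topCos.chkFinal 34650 512 50 = true := by decide +kernel

theorem topCos_final51 : allBlock topCos.chkFinal 34650 512 51 = true := by decide +kernel

theorem topCos_final52 : allBlock topCos.chkFinal 34650 512 52 = true := by decide +kernel

theorem topCos_final53 : allBlock topCos.chkFinal 34650 512 53 = true := by decide +kernel

theorem topCos_final54 : allBlock topCos.chkFinal 34650 512 54 = true := by decide +kernel

theorem topCos_final55 : allBlock topCos.chkFinal 34650 512 55 = true := by decide +kernel

theorem topCos_final56 : allBlock topCos.chkFinal 34650 512 56 = true := by decide +kernel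

theorem topCos_final57 : allBlock topCos.chkFinal 34650 512 57 = true := by decide +kernel

theorem topCos_final58 : allBlock topCos.chkFinal 34650 512 58 = true := by decide +kernel

theorem topCos_final59 : allBlock topCos.chkFinal 34650 512 59 = true := by decide +kernel

theorem topCos_final60 : allBlock topCos.chkFinal 34650 512 60 = true := by decide +kernel

theorem topCos_final61 : allBlock topCos.chkFinal 34650 512 61 = true := by decide +kernel

theorem topCos_final62 : allBlock topCos.chkFinal 34650 512 62 = true := by decide +kernel

theorem topCos_final63 : allBlock topCos.chkFinal 34650 512 63 = true := by decide +kernel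

theorem topCos_final64 : allBlock topCos.chkFinal 34650 512 64 = true := by decide +kernel

theorem topCos_final65 : allBlock topCos.chkFinal 34650 512 65 = true := by decide +kernel

theorem topCos_final66 : allBlock topCos.chkFinal 34650 512 66 = true := by decide +kernel

theorem topCos_final67 : allBlock topCos.chkFinal 34650 512 67 = true := by decide +kernel

theorem topCos_checks : topCos.Checks where
  pos := by decide +kernel
  defs := topCos_defs
  facts := topCos_facts
  final := by
    intro k hk
    change k < 5775 * 6 at hk
    refine of_allBlock (n := 34650) (size := 512) (by decide) (fun j hj => ?_) (by omega)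
    have hj' : j < 68 := by omega
    interval_cases j
    · exact topCos_final0
    · exact topCos_final1
    · exact topCos_final2
    · exact topCos_final3
    · exact topCos_final4
    · exact topCos_final5
    · exact topCos_final6
    · exact topCos_final7
    · exact topCos_final8
    · exact topCos_final9
    · exact topCos_final10
    · exact topCos_final11
    · exact topCos_final12
    · exact topCos_final13
    · exact topCos_final14
    · exact topCos_final15
    · exact topCos_final16
    · exact topCos_final17
    · exact topCos_final18
    · exact topCos_final19
    · exact topCos_final20
    · exact topCos_final21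
    · exact topCos_final22
    · exact topCos_final23
    · exact topCos_final24
    · exact topCos_final25
    · exact topCos_final26
    · exact topCos_final27
    · exact topCos_final28
    · exact topCos_final29
    · exact topCos_final30
    · exact topCos_final31
    · exact topCos_final32
    · exact topCos_final33
    · exact topCos_final34
    · exact topCos_final35
    · exact topCos_final36
    · exact topCos_final37
    · exact topCos_final38
    · exact topCos_final39
    · exact topCos_final40
    · exact topCos_final41
    · exact topCos_final42
    · exact topCos_final43
    · exact topCos_final44
    · exact topCos_final45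
    · exact topCos_final46
    · exact topCos_final47
    · exact topCos_final48
    · exact topCos_final49
    · exact topCos_final50
    · exact topCos_final51
    · exact topCos_final52
    · exact topCos_final53
    · exact topCos_final54
    · exact topCos_final55
    · exact topCos_final56
    · exact topCos_final57
    · exact topCos_final58
    · exact topCos_final59
    · exact topCos_final60
    · exact topCos_final61
    · exact topCos_final62
    · exact topCos_final63
    · exact topCos_final64
    · exact topCos_final65
    · exact topCos_final66
    · exact topCos_final67

theorem topCos_derived : topCos.rels.all (derivedOk topCos.n topCosBase) = true := by decide +kernel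

end Cfsg.Agent.Grp.HSCent
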